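import Mathlib

/-!
Arithmetic in `ZMod (2 ^ k)`.
-/

set_option autoImplicit false

namespace CfsgLib.Fusion.G2Type

/-- The element of order two. -/
def hh (k : ℕ) : ZMod (2 ^ k) := ((2 ^ (k - 1) : ℕ) : ZMod (2 ^ k))

/-- The parity map. -/
def par {k : ℕ} (hk : k ≠ 0) : ZMod (2 ^ k) →+* ZMod 2 := ZMod.castHom (dvd_pow_self 2 hk) _

variable {k : ℕ}

section

variable (hk : k ≠ 0)
include hk

theorem two_hh : hh k + hh k = 0 := by
  rw [hh, ← Nat.cast_add, ← two_mul, ← pow_succ', Nat.sub_add_cancel (Nat.pos_of_ne_zero hk),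
    ZMod.natCast_self]

theorem hh_ne : hh k ≠ 0 := by
  rw [hh, Ne, ZMod.natCast_eq_zero_iff]
  intro h
  have h1 := Nat.le_of_dvd (by positivity) h
  have h2 : 2 ^ (k - 1) < 2 ^ k := Nat.pow_lt_pow_right (by norm_num) (by omega)
  omega

theorem eq_of_add_self {a : ZMod (2 ^ k)} (h : a + a = 0) : a = 0 ∨ a = hh k := by
  have h1 : ((a.val + a.val : ℕ) : ZMod (2 ^ k)) = 0 := by simpa using h
  rw [ZMod.natCast_eq_zero_iff] at h1
  obtain ⟨c, hc⟩ := h1
  have hlt := ZMod.val_lt a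
  have hp : (2 : ℕ) ^ k = 2 * 2 ^ (k - 1) := by
    rw [← pow_succ', Nat.sub_add_cancel (Nat.pos_of_ne_zero hk)]
  have hc2 : c < 2 := by
    by_contra hge
    have : 2 ^ k * 2 ≤ 2 ^ k * c := Nat.mul_le_mul_left _ (by omega)
    omega
  interval_cases c
  · left
    rw [← ZMod.natCast_zmod_val a, show a.val = 0 by omega, Nat.cast_zero]
  · right
    rw [← ZMod.natCast_zmod_val a, hh, show a.val = 2 ^ (k - 1) by omega]

theorem exists_half {a : ZMod (2 ^ k)} (h : par hk a = 0) : ∃ b, a = b + b := by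
  have h1 : ((a.val : ℕ) : ZMod 2) = 0 := by
    rw [← map_natCast (par hk), ZMod.natCast_zmod_val, h]
  rw [ZMod.natCast_eq_zero_iff] at h1
  obtain ⟨c, hc⟩ := h1
  refine ⟨(c : ZMod (2 ^ k)), ?_⟩
  rw [← Nat.cast_add, ← two_mul, ← hc, ZMod.natCast_zmod_val]

theorem hh_mul (a : ZMod (2 ^ k)) :
    hh k * a = if par hk a = 0 then 0 else hh k := by
  have key : ∀ b, hh k * (b + b) = 0 := fun b => by rw [mul_add, ← add_mul, two_hh hk, zero_mul]
  split_ifs with h
  · obtain ⟨b, rfl⟩ := exists_half hk h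
    exact key b
  · have h1 : par hk (a - 1) = 0 := by
      rw [map_sub, map_one]
      revert h; generalize par hk a = p; revert p; decide
    obtain ⟨b, hb⟩ := exists_half hk h1
    rw [eq_add_of_sub_eq hb, mul_add, key, zero_add, mul_one]

end

theorem par_hh (h2 : 2 ≤ k) : par (show k ≠ 0 by omega) (hh k) = 0 := by
  rw [hh, map_natCast, ZMod.natCast_eq_zero_iff]
  exact dvd_pow_self 2 (by omega)

theorem par_of_four (h3 : 3 ≤ k) {b : ZMod (2 ^ k)} (h : b + b + (b + b) = 0) :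
    par (show k ≠ 0 by omega) b = 0 := by
  rcases eq_of_add_self (show k ≠ 0 by omega) h with h1 | h1
  · rcases eq_of_add_self (show k ≠ 0 by omega) h1 with rfl | rfl
    · exact map_zero _
    · exact par_hh (by omega)
  · have e : hh k = ((2 ^ (k - 2) : ℕ) : ZMod (2 ^ k)) + ((2 ^ (k - 2) : ℕ) : ZMod (2 ^ k)) := by
      rw [hh, ← Nat.cast_add, ← two_mul, ← pow_succ', show k - 2 + 1 = k - 1 by omega]
    have h4 : (b - ((2 ^ (k - 2) : ℕ) : ZMod (2 ^ k))) + (b - ((2 ^ (k - 2) : ℕ) : ZMod (2 ^ k))) = 0 := by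
      linear_combination h1 + e
    have hq : par (show k ≠ 0 by omega) ((2 ^ (k - 2) : ℕ) : ZMod (2 ^ k)) = 0 := by
      rw [map_natCast, ZMod.natCast_eq_zero_iff]
      exact dvd_pow_self 2 (by omega)
    rcases eq_of_add_self (show k ≠ 0 by omega) h4 with h5 | h5
    · rw [sub_eq_zero.mp h5, hq]
    · rw [eq_add_of_sub_eq h5, map_add, hq, par_hh (by omega), add_zero]

end CfsgLib.Fusion.G2Type
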