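import Cfsg.Agent.Lib.Fusion.G2Type.Shape
import Cfsg.Agent.Lib.Fusion.G2Type.Arith

/-!
The involutions of a group of shape `G₂(q)`-Sylow and their classes in it.
-/

set_option autoImplicit false

namespace CfsgLib.Fusion.G2Type

namespace Shape

variable {G : Type*} [Group G] {S : Subgroup G} {k : ℕ} (σ : Shape S k)

include σ in
theorem hk : k ≠ 0 := by have := σ.two_le; omega

/-- The central involution. -/
def z : G := σ.e (hh k, hh k) false false
/-- An involution of the homocyclic group. -/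
def v : G := σ.e (hh k, 0) false false

include σ in
theorem neg_hh' : -hh k = hh k := neg_eq_of_add_eq_zero_left (two_hh σ.hk)

include σ in
theorem one_add_one_ne : (1 : ZMod (2 ^ k)) + 1 ≠ 0 := by
  intro h
  rcases eq_of_add_self σ.hk h with h1 | h1
  · have := congrArg (par σ.hk) h1
    rw [map_one, map_zero] at this
    exact one_ne_zero this
  · have := congrArg (par σ.hk) h1
    rw [map_one, par_hh σ.two_le] at this
    exact one_ne_zero this

theorem z_comm {g : G} (hg : g ∈ S) : Commute σ.z g := by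
  obtain ⟨x, i, j, rfl⟩ := σ.exists_e hg
  rw [z, commute_iff]
  cases i <;> cases j <;> simp [act, sw, σ.neg_hh', add_comm]

theorem v_comm {g : G} (hg : g ∈ S) : Commute g σ.v ↔ ∃ x i, g = σ.e x i false := by
  obtain ⟨x, i, j, rfl⟩ := σ.exists_e hg
  rw [v, commute_iff]
  constructor
  · intro h
    cases j
    · exact ⟨x, i, rfl⟩
    · exfalso
      have h1 : act i true (hh k, (0 : ZMod (2 ^ k))) = ((hh k, 0) : V k) := by
        have h' : x + act i true (hh k, 0) = x + (hh k, 0) := by
          rw [h]; simp [act, sw, add_comm]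
        exact add_left_cancel h'
      cases i <;> simp [act, sw, hh_ne σ.hk, σ.neg_hh'] at h1
  · rintro ⟨y, l, h⟩
    obtain ⟨-, -, rfl⟩ := (σ.e_inj).mp h
    cases i <;> simp [act, sw, σ.neg_hh', add_comm]

theorem z_sq : σ.z * σ.z = 1 := by
  rw [z, e_sq, e_eq_one]; simp [act, sw, two_hh σ.hk]

theorem v_sq : σ.v * σ.v = 1 := by
  rw [v, e_sq, e_eq_one]; simp [act, sw, two_hh σ.hk]

theorem z_ne : σ.z ≠ 1 := by simp [z, e_eq_one, hh_ne σ.hk]

theorem v_ne : σ.v ≠ 1 := by simp [v, e_eq_one, hh_ne σ.hk]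

theorem v_ne_z : σ.v ≠ σ.z := by
  simp [v, z, e_inj, Ne.symm (hh_ne σ.hk)]

include σ in
theorem eq_of_sq {x : V k} (h : x + x = 0) (hx : x ≠ 0) :
    x = (hh k, hh k) ∨ x = (hh k, 0) ∨ x = (0, hh k) := by
  obtain ⟨a, b⟩ := x
  simp only [Prod.mk_add_mk, Prod.mk_eq_zero] at h
  rcases eq_of_add_self σ.hk h.1 with rfl | rfl <;> rcases eq_of_add_self σ.hk h.2 with rfl | rfl
  · exact absurd rfl hx
  · exact Or.inr (Or.inr rfl)
  · exact Or.inr (Or.inl rfl)
  · exact Or.inl rfl

theorem isConj_vswap : IsConj (σ.e (0, hh k) false false) σ.v := by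
  have := σ.isConj_e 0 false true (0, hh k) false false
  simpa [act, sw, v] using this

theorem isConj_s (a : ZMod (2 ^ k)) : IsConj (σ.e (a, -a) false true) (σ.e 0 false true) := by
  have := σ.isConj_e (a, 0) false false 0 false true
  simpa [act, sw] using this.symm

theorem isConj_sn (a : ZMod (2 ^ k)) : IsConj (σ.e (a, a) true true) (σ.e 0 true true) := by
  have := σ.isConj_e (a, 0) false false 0 true true
  simpa [act, sw] using this.symm

theorem isConj_n {x y : V k} (h1 : par σ.hk x.1 = par σ.hk y.1) (h2 : par σ.hk x.2 = par σ.hk y.2) :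
    IsConj (σ.e x true false) (σ.e y true false) := by
  obtain ⟨b, hb⟩ := exists_half σ.hk (show par σ.hk (y.1 - x.1) = 0 by rw [map_sub, h1, sub_self])
  obtain ⟨c, hc⟩ := exists_half σ.hk (show par σ.hk (y.2 - x.2) = 0 by rw [map_sub, h2, sub_self])
  have := σ.isConj_e (b, c) false false x true false
  have e : (b, c) + x + (b, c) = y := by
    ext <;> simp only [Prod.fst_add, Prod.snd_add]
    · linear_combination -hb
    · linear_combination -hc
  simpa [act, sw, e] using this

theorem isConj_n01 : IsConj (σ.e (0, 1) true false) (σ.e (1, 0) true false) := by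
  have := σ.isConj_e 0 false true (0, 1) true false
  simpa [act, sw] using this

theorem ft_shape {x : V k} (h : σ.e x false true * σ.e x false true = 1) :
    IsConj (σ.e x false true) (σ.e 0 false true) := by
  rw [e_sq, e_eq_one] at h
  have h1 : x.1 + x.2 = 0 := congrArg Prod.fst h.1
  have e : x = (x.1, -x.1) := Prod.ext rfl (neg_eq_of_add_eq_zero_right h1).symm
  rw [e]
  exact σ.isConj_s _

theorem tt_shape {x : V k} (h : σ.e x true true * σ.e x true true = 1) :
    IsConj (σ.e x true true) (σ.e 0 true true) := by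
  rw [e_sq, e_eq_one] at h
  have h1 : x.1 + -x.2 = 0 := congrArg Prod.fst h.1
  have e : x = (x.1, x.1) := Prod.ext rfl (by linear_combination -h1)
  rw [e]
  exact σ.isConj_sn _

theorem ff_shape {x : V k} (h : σ.e x false false * σ.e x false false = 1)
    (hx : σ.e x false false ≠ 1) :
    σ.e x false false = σ.z ∨ IsConj (σ.e x false false) σ.v := by
  rw [e_sq, e_eq_one] at h
  have h1 : x + x = 0 := h.1
  rcases σ.eq_of_sq h1 (fun e => hx (by rw [e, e_one])) with rfl | rfl | rfl
  · exact Or.inl rfl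
  · exact Or.inr (IsConj.refl _)
  · exact Or.inr σ.isConj_vswap

/-- A noncentral involution of the group is conjugate in it to its product with `z`. -/
theorem isConj_mul_z {g : G} (hg : g ∈ S) (h : g * g = 1) (h1 : g ≠ 1) (hz : g ≠ σ.z) :
    IsConj g (g * σ.z) := by
  obtain ⟨x, i, j, rfl⟩ := σ.exists_e hg
  rw [z, e_mul]
  have hn := σ.neg_hh'
  cases i <;> cases j
  · rw [e_sq, e_eq_one] at h
    have h' : x + x = 0 := h.1
    rcases σ.eq_of_sq h' (fun e => h1 (by rw [e, e_one])) with rfl | rfl | rfl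
    · exact absurd rfl hz
    · simpa [act, sw, v, two_hh σ.hk] using σ.isConj_vswap.symm
    · simpa [act, sw, v, two_hh σ.hk] using σ.isConj_vswap
  · rw [e_sq, e_eq_one] at h
    have h' : x.1 + x.2 = 0 := congrArg Prod.fst h.1
    refine (σ.ft_shape (by rw [e_sq, e_eq_one]; exact h)).trans (σ.ft_shape ?_).symm
    rw [e_sq, e_eq_one]
    refine ⟨Prod.ext ?_ ?_, rfl, rfl⟩ <;> simp [act, sw] <;> linear_combination h' + two_hh σ.hk
  · refine σ.isConj_n ?_ ?_ <;> simp [act, sw, par_hh σ.two_le, hn]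
  · rw [e_sq, e_eq_one] at h
    have h' : x.1 + -x.2 = 0 := congrArg Prod.fst h.1
    refine (σ.tt_shape (by rw [e_sq, e_eq_one]; exact h)).trans (σ.tt_shape ?_).symm
    rw [e_sq, e_eq_one]
    refine ⟨Prod.ext ?_ ?_, rfl, rfl⟩ <;> simp [act, sw, hn]
    · linear_combination h' + two_hh σ.hk
    · linear_combination -h' + two_hh σ.hk

/-- A square in the group which is an involution is `z` or conjugate to `v`. -/
theorem sq_shape {q w : G} (hq : q ∈ S) (e : q * q = w) (hw : w * w = 1) (h1 : w ≠ 1) :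
    w = σ.z ∨ IsConj w σ.v := by
  obtain ⟨x, i, j, rfl⟩ := σ.exists_e hq
  rw [e_sq] at e
  subst e
  exact σ.ff_shape hw h1

include σ in
theorem card_eq : Nat.card S = 2 ^ (2 * k + 2) := by
  have hb : Function.Bijective
      (fun p : V k × Bool × Bool => (⟨σ.e p.1 p.2.1 p.2.2, σ.e_mem _ _ _⟩ : S)) := by
    refine ⟨fun p p' h => ?_, fun g => ?_⟩
    · obtain ⟨h1, h2, h3⟩ := σ.e_inj.mp (congrArg Subtype.val h)
      exact Prod.ext h1 (Prod.ext h2 h3)
    · obtain ⟨x, i, j, e⟩ := σ.exists_e g.2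
      exact ⟨(x, i, j), Subtype.ext e.symm⟩
  rw [← Nat.card_eq_of_bijective _ hb]
  simp only [Nat.card_prod, Nat.card_zmod, Nat.card_eq_fintype_card (α := Bool), Fintype.card_bool]
  ring

end Shape

end CfsgLib.Fusion.G2Type
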