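import Cfsg.Agent.Lib.Fusion.G2Type.Involutions
import Cfsg.Agent.Lib.Fusion.ThompsonTransfer
import Cfsg.Agent.Lib.Involution.SylowFusionTools
import Cfsg.Agent.Lib.Involution.Isolated
import Cfsg.Agent.S0215

/-!
Classes of involutions of a simple group with a Sylow 2-subgroup of `G₂(q)` shape.
-/

set_option autoImplicit false

namespace CfsgLib.Fusion.G2Type

open Subgroup

namespace Shape

variable {G : Type*} [Group G] {S : Sylow 2 G} {k : ℕ} (σ : Shape (S : Subgroup G) k)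

theorem conj_mul_self {g u : G} (h : u * u = 1) : (g * u * g⁻¹) * (g * u * g⁻¹) = 1 := by
  rw [show (g * u * g⁻¹) * (g * u * g⁻¹) = g * (u * u) * g⁻¹ by group, h]; group

theorem conj_ne_one {g u : G} (h : u ≠ 1) : g * u * g⁻¹ ≠ 1 := fun e => h (conj_eq_one_iff.mp e)

include σ in
theorem not_comm : ¬ ∀ a b : G, a * b = b * a := by
  intro h
  have h1 : Commute (σ.e 0 true false) (σ.e (1, 0) false false) := h _ _
  rw [commute_iff] at h1
  have := congrArg Prod.fst h1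
  simp [act, sw] at this
  exact σ.one_add_one_ne (by linear_combination -this)

variable [Finite G] [IsSimpleGroup G]

include σ in
theorem no_index_two (M : Subgroup G) (hM : M.Normal) (h : M.index = 2) : False := by
  rcases hM.eq_bot_or_eq_top with rfl | rfl
  · rw [index_bot] at h
    have h1 := Subgroup.card_dvd_of_le (le_top : (S : Subgroup G) ≤ ⊤)
    rw [card_top, h, σ.card_eq] at h1
    have h2 := Nat.le_of_dvd two_pos h1
    have h3 : 2 ^ 2 ≤ 2 ^ (2 * k + 2) := Nat.pow_le_pow_right two_pos (by omega)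
    omega
  · rw [index_top] at h
    omega

include σ in
theorem exists_conj_z : ∃ g : G, g * σ.z * g⁻¹ ∈ S ∧ g * σ.z * g⁻¹ ≠ σ.z := by
  by_contra hno
  simp only [not_exists, not_and, not_not] at hno
  have hz2 : orderOf σ.z = 2 := orderOf_eq_prime (by rw [pow_two, z_sq]) σ.z_ne
  obtain ⟨N, hN, hodd, hc⟩ := Cfsg.Agent.S0215.result S σ.z hz2 (σ.e_mem _ _ _) hno
  have hN1 : N = ⊥ := by
    refine hN.eq_bot_or_eq_top.resolve_right fun h => ?_
    rw [h, card_top] at hodd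
    have := orderOf_dvd_natCard σ.z
    rw [hz2] at this
    exact absurd hodd (Nat.not_odd_iff_even.mpr (even_iff_two_dvd.mpr this))
  have hzc : σ.z ∈ center G := mem_center_iff.2 fun g => by
    have := hc g
    rw [hN1, mem_bot, mul_inv_eq_one, mul_inv_eq_iff_eq_mul] at this
    exact this.symm
  rcases (inferInstance : (center G).Normal).eq_bot_or_eq_top with h | h
  · rw [h, mem_bot] at hzc
    exact σ.z_ne hzc
  · exact σ.not_comm fun a b => (mem_center_iff.1 (h ▸ mem_top b : b ∈ center G) a)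

omit [IsSimpleGroup G] in
theorem conj_into {u : G} (hu : IsConj u σ.z) :
    ∃ g, g * u * g⁻¹ = σ.z ∧ ∀ p ∈ S, Commute p u → g * p * g⁻¹ ∈ S := by
  haveI : Fact (Nat.Prime 2) := ⟨Nat.prime_two⟩
  obtain ⟨g0, hg0⟩ := isConj_iff.mp hu
  let P : Subgroup G := ((S : Subgroup G) ⊓ centralizer {u}).map (MulAut.conj g0).toMonoidHom
  have hP : IsPGroup 2 P := (S.2.to_le inf_le_left).map _
  have hPK : P ≤ centralizer {σ.z} := by
    rintro _ ⟨p, hp, rfl⟩
    have h := mem_centralizer_singleton_iff.mp hp.2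
    rw [mem_centralizer_singleton_iff, ← hg0]
    show g0 * p * g0⁻¹ * (g0 * u * g0⁻¹) = g0 * u * g0⁻¹ * (g0 * p * g0⁻¹)
    rw [show g0 * p * g0⁻¹ * (g0 * u * g0⁻¹) = g0 * (p * u) * g0⁻¹ by group, h]
    group
  obtain ⟨l, hl, hlS⟩ := Involution.SylowFusionTools.exists_centralizing_conj_into S
    (fun g hg => mem_centralizer_singleton_iff.mpr (σ.z_comm hg).eq.symm) hP hPK
  refine ⟨l * g0, ?_, fun p hp hpu => ?_⟩
  · have h := mem_centralizer_singleton_iff.mp hl
    rw [show l * g0 * u * (l * g0)⁻¹ = l * (g0 * u * g0⁻¹) * l⁻¹ by group, hg0, h,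
      mul_inv_cancel_right]
  · have := hlS (g0 * p * g0⁻¹) ⟨p, ⟨hp, mem_centralizer_singleton_iff.mpr hpu.eq⟩, rfl⟩
    rwa [show l * g0 * p * (l * g0)⁻¹ = l * (g0 * p * g0⁻¹) * l⁻¹ by group]

omit [IsSimpleGroup G] in
theorem v_of_sqrt {u : G} (hu : IsConj u σ.z) (hne : u ≠ σ.z) {q : G} (hq : q ∈ S)
    (hc : Commute q u) (hsq : q * q = σ.z) : IsConj σ.v σ.z := by
  obtain ⟨g, hg, hgS⟩ := σ.conj_into hu
  have hz : g * σ.z * g⁻¹ = (g * q * g⁻¹) * (g * q * g⁻¹) := by rw [← hsq]; group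
  rcases σ.sq_shape (hgS q hq hc) hz.symm (conj_mul_self σ.z_sq) (conj_ne_one σ.z_ne) with h | h
  · exact absurd (mul_left_cancel (mul_right_cancel (hg.trans h.symm))) hne
  · exact h.symm.trans (isConj_iff.mpr ⟨g, rfl⟩ : IsConj σ.z _).symm

include σ in
theorem v_conj : IsConj σ.v σ.z := by
  obtain ⟨g0, hu, hne⟩ := σ.exists_conj_z
  have hR : IsConj (g0 * σ.z * g0⁻¹) σ.z := (isConj_iff.mpr ⟨g0, rfl⟩ : IsConj σ.z _).symm
  have h2 : (g0 * σ.z * g0⁻¹) * (g0 * σ.z * g0⁻¹) = 1 := conj_mul_self σ.z_sq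
  have h1 : g0 * σ.z * g0⁻¹ ≠ 1 := conj_ne_one σ.z_ne
  generalize g0 * σ.z * g0⁻¹ = u at hu hne hR h2 h1
  have hk := σ.two_le
  let q0 : ZMod (2 ^ k) := ((2 ^ (k - 2) : ℕ) : ZMod (2 ^ k))
  have hq0 : q0 + q0 = hh k := by
    rw [hh, ← Nat.cast_add, ← two_mul, ← pow_succ', show k - 2 + 1 = k - 1 by omega]
  have hz : ∀ {j : Bool}, j = true → σ.e 0 false j ≠ σ.z := by
    rintro j rfl h; simp [z, e_inj] at h
  obtain ⟨x, i, j, rfl⟩ := σ.exists_e hu
  cases i <;> cases j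
  · rcases σ.ff_shape h2 h1 with h | h
    · exact absurd h hne
    · exact h.symm.trans hR
  · refine σ.v_of_sqrt ((σ.ft_shape h2).symm.trans hR) (hz rfl)
      (σ.e_mem (q0, q0) false false) ?_ ?_
    · rw [commute_iff]; simp [act, sw]
    · rw [e_sq, z]; simp [act, sw, hq0]
  · -- the inverting involutions
    have huv : IsConj (σ.v * σ.e x true false) (σ.e x true false) := by
      rw [v, e_mul]
      refine σ.isConj_n ?_ ?_ <;> simp [act, sw, par_hh hk]
    obtain ⟨g, hg, hgS⟩ := σ.conj_into hR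
    have hy : g * σ.v * g⁻¹ ∈ S := hgS _ (σ.e_mem _ _ _) (by
      show Commute σ.v _
      exact ((σ.v_comm (σ.e_mem x true false)).mpr ⟨x, true, rfl⟩).symm)
    by_contra hvz
    have hyR : ¬ IsConj (g * σ.v * g⁻¹) σ.z := fun h =>
      hvz ((isConj_iff.mpr ⟨g, rfl⟩ : IsConj σ.v _).trans h)
    have hyz : g * σ.v * g⁻¹ ≠ σ.z := fun h => hyR (h ▸ IsConj.refl _)
    have h3 := σ.isConj_mul_z hy (conj_mul_self σ.v_sq) (conj_ne_one σ.v_ne) hyz
    refine hyR (h3.trans ?_)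
    rw [show g * σ.v * g⁻¹ * σ.z = g * (σ.v * σ.e x true false) * g⁻¹ by rw [← hg]; group]
    exact (isConj_iff.mpr ⟨g, rfl⟩ : IsConj _ _).symm.trans (huv.trans hR)
  · refine σ.v_of_sqrt ((σ.tt_shape h2).symm.trans hR) ?_
      (σ.e_mem (q0, -q0) false false) ?_ ?_
    · simp [z, e_inj]
    · rw [commute_iff]; simp [act, sw]
    · rw [e_sq, z]; simp [act, sw, hq0, ← neg_add, σ.neg_hh']

include σ in
theorem n10_conj : IsConj (σ.e (1, 0) true false) (σ.e 0 true false) ∨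
    IsConj (σ.e (1, 0) true false) (σ.e (1, 1) true false) := by
  obtain ⟨g0, hg0, hgS0⟩ := σ.conj_into σ.v_conj
  have hvS : σ.v ∈ S := σ.e_mem _ _ _
  have hzS : g0 * σ.z * g0⁻¹ ∈ S := hgS0 _ (σ.e_mem _ _ _) (σ.z_comm hvS)
  have hq : ∃ q ∈ (S : Subgroup G), q * q = g0 * σ.z * g0⁻¹ := by
    obtain ⟨q0, hq0⟩ : ∃ q0 : ZMod (2 ^ k), q0 + q0 = hh k :=
      ⟨((2 ^ (k - 2) : ℕ) : ZMod (2 ^ k)), by
        have := σ.two_le
        rw [hh, ← Nat.cast_add, ← two_mul, ← pow_succ', show k - 2 + 1 = k - 1 by omega]⟩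
    have hqv : Commute (σ.e (q0, q0) false false) σ.v :=
      (σ.v_comm (σ.e_mem _ _ _)).mpr ⟨_, _, rfl⟩
    refine ⟨_, hgS0 _ (σ.e_mem (q0, q0) false false) hqv, ?_⟩
    rw [show σ.z = σ.e (q0, q0) false false * σ.e (q0, q0) false false by
      rw [e_sq, z]; simp [act, sw, hq0]]
    group
  -- normalise so that z goes to v
  obtain ⟨g, hgv, hgz, hgS⟩ : ∃ g, g * σ.v * g⁻¹ = σ.z ∧ g * σ.z * g⁻¹ = σ.v ∧
      ∀ p ∈ S, Commute p σ.v → g * p * g⁻¹ ∈ S := by
    obtain ⟨q, hqS, hq⟩ := hq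
    obtain ⟨x, i, j, rfl⟩ := σ.exists_e hqS
    rw [e_sq] at hq
    have h2 : g0 * σ.z * g0⁻¹ * (g0 * σ.z * g0⁻¹) = 1 := conj_mul_self σ.z_sq
    rw [← hq, e_sq, e_eq_one] at h2
    have h2' : x + act i j x + (x + act i j x) = 0 := h2.1
    rcases σ.eq_of_sq h2' (fun e => conj_ne_one (g := g0) σ.z_ne (by rw [← hq, e, e_one]))
      with e | e | e <;> rw [e] at hq
    · have hzz : g0 * σ.z * g0⁻¹ = g0 * σ.v * g0⁻¹ := (hq.symm.trans rfl).trans hg0.symm
      exact absurd (mul_left_cancel (mul_right_cancel hzz)).symm σ.v_ne_z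
    · exact ⟨g0, hg0, hq.symm, hgS0⟩
    · refine ⟨σ.s * g0, ?_, ?_, fun p hp hpv => ?_⟩
      · rw [show σ.s * g0 * σ.v * (σ.s * g0)⁻¹ = σ.s * (g0 * σ.v * g0⁻¹) * σ.s⁻¹ by group, hg0,
          ← (σ.z_comm σ.s_mem).eq, mul_inv_cancel_right]
      · rw [show σ.s * g0 * σ.z * (σ.s * g0)⁻¹ = σ.s * (g0 * σ.z * g0⁻¹) * σ.s⁻¹ by group, ← hq,
          ← e_s, e_inv, e_mul, e_mul, v]
        simp [e_inj, act, sw]
      · rw [show σ.s * g0 * p * (σ.s * g0)⁻¹ = σ.s * (g0 * p * g0⁻¹) * σ.s⁻¹ by group]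
        exact mul_mem (mul_mem σ.s_mem (hgS0 p hp hpv)) (inv_mem σ.s_mem)
  let φ : G →* G := (MulAut.conj g).toMonoidHom
  have hφv : φ σ.v = σ.z := hgv
  have hφz : φ σ.z = σ.v := hgz
  have him : ∀ y l, ∃ x i, φ (σ.e y l false) = σ.e x i false := by
    intro y l
    have hc : Commute (σ.e y l false) σ.v := (σ.v_comm (σ.e_mem _ _ _)).mpr ⟨_, _, rfl⟩
    refine (σ.v_comm (hgS _ (σ.e_mem _ _ _) hc)).mp ?_
    show Commute (φ (σ.e y l false)) σ.v
    rw [← hφz]
    exact (σ.z_comm (σ.e_mem y l false)).symm.map φ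
  have hT : ∀ y : V k, y + y ≠ 0 → ∃ p, φ (σ.e y false false) = σ.e p false false := by
    intro y hy
    obtain ⟨p, i, h⟩ := him y false
    cases i
    · exact ⟨p, h⟩
    · exfalso
      have h' : φ (σ.e y false false * σ.e y false false) = 1 := by
        rw [map_mul, h, e_sq, e_eq_one]; simp [act, sw]
      rw [map_eq_one_iff φ (MulAut.conj g).injective, e_sq, e_eq_one] at h'
      exact hy h'.1
  obtain ⟨p1, hp1⟩ := hT (1, 0) (fun h => σ.one_add_one_ne (congrArg Prod.fst h))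
  obtain ⟨p2, hp2⟩ := hT (0, 1) (fun h => σ.one_add_one_ne (congrArg Prod.snd h))
  have hpow : ∀ (p : V k) (m : ℕ), σ.e p false false ^ m = σ.e (m • p) false false := by
    intro p m
    induction m with
    | zero => simp [e_one]
    | succ m ih => rw [pow_succ, ih, e_mul, succ_nsmul]; simp [act, sw]
  have hsm : ∀ a : ZMod (2 ^ k), (2 ^ (k - 1)) • a = hh k * a := fun a => by rw [nsmul_eq_mul]; rfl
  have hn1 : (2 ^ (k - 1)) • p1 = (hh k, hh k) := by
    have h := congrArg (· ^ 2 ^ (k - 1)) hp1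
    simp only [← map_pow, hpow] at h
    rw [show (2 ^ (k - 1)) • ((1, 0) : V k) = (hh k, 0) by ext <;> simp [hsm]] at h
    exact ((σ.e_inj).mp (h.symm.trans hφv)).1
  have hn2 : (2 ^ (k - 1)) • p2 = (0, hh k) := by
    have h := congrArg (· ^ 2 ^ (k - 1)) hp2
    simp only [← map_pow, hpow] at h
    rw [show (2 ^ (k - 1)) • ((0, 1) : V k) = (0, hh k) by ext <;> simp [hsm]] at h
    have hv' : φ (σ.e (0, hh k) false false) = σ.e (0, hh k) false false := by
      rw [show σ.e (0, hh k) false false = σ.v * σ.z by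
        rw [v, z, e_mul]; simp [act, sw, two_hh σ.hk], map_mul, hφv, hφz, v, z, e_mul, e_mul]
      simp [e_inj, act, sw, two_hh σ.hk]
    exact ((σ.e_inj).mp (h.symm.trans hv')).1
  have hpar : ∀ a : ZMod (2 ^ k), (2 ^ (k - 1)) • a = hh k → par σ.hk a = 1 := by
    intro a ha
    rw [hsm, hh_mul σ.hk] at ha
    by_cases h : par σ.hk a = 0
    · rw [if_pos h] at ha; exact absurd ha.symm (hh_ne σ.hk)
    · revert h; generalize par σ.hk a = p; revert p; decide
  have hpar0 : ∀ a : ZMod (2 ^ k), (2 ^ (k - 1)) • a = 0 → par σ.hk a = 0 := by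
    intro a ha
    rw [hsm, hh_mul σ.hk] at ha
    by_contra h
    rw [if_neg h] at ha
    exact hh_ne σ.hk ha
  have a1 := hpar p1.1 (congrArg Prod.fst hn1)
  have a2 := hpar p1.2 (congrArg Prod.snd hn1)
  have b1 := hpar0 p2.1 (congrArg Prod.fst hn2)
  have b2 := hpar p2.2 (congrArg Prod.snd hn2)
  obtain ⟨c, hc⟩ : ∃ c, φ (σ.e 0 true false) = σ.e c true false := by
    obtain ⟨c, i, h⟩ := him 0 true
    cases i
    · exfalso
      have h' : Commute (φ (σ.e 0 true false)) (φ (σ.e (1, 0) false false)) := by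
        rw [h, hp1, commute_iff]; simp [act, sw, add_comm]
      have h'' : Commute (σ.e 0 true false) (σ.e (1, 0) false false) :=
        (MulAut.conj g).injective (by
          show φ (_ * _) = φ (_ * _)
          rw [map_mul, map_mul]; exact h'.eq)
      rw [commute_iff] at h''
      have := congrArg Prod.fst h''
      simp [act, sw] at this
      exact σ.one_add_one_ne (by linear_combination -this)
    · exact ⟨c, h⟩
  have himage : ∀ y p, φ (σ.e y false false) = σ.e p false false →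
      IsConj (σ.e y true false) (σ.e (p + c) true false) := by
    intro y p h
    refine isConj_iff.mpr ⟨g, ?_⟩
    show φ (σ.e y true false) = _
    rw [show σ.e y true false = σ.e y false false * σ.e 0 true false by
      rw [e_mul]; simp [act, sw], map_mul, h, hc, e_mul]
    simp [act, sw]
  have i10 := himage (1, 0) p1 hp1
  have i01 := himage (0, 1) p2 hp2
  have i11 := himage (1, 1) (p1 + p2) (by
    rw [show σ.e ((1, 1) : V k) false false = σ.e (1, 0) false false * σ.e (0, 1) false false by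
      rw [e_mul]; simp [act, sw], map_mul, hp1, hp2, e_mul]
    simp [act, sw])
  have i00 := himage 0 0 (by rw [e_one, map_one])
  have fin : ∀ p q : ZMod 2, (p = 0 ∧ q = 0) ∨ (p = 1 ∧ q = 0) ∨ (p = 0 ∧ q = 1) ∨ (p = 1 ∧ q = 1) := by
    decide
  rcases fin (par σ.hk c.1) (par σ.hk c.2) with ⟨u, w⟩ | ⟨u, w⟩ | ⟨u, w⟩ | ⟨u, w⟩
  · exact Or.inr (i10.trans (σ.isConj_n (by simp [a1, u]) (by simp [a2, w])))
  · exact Or.inl ((i00.trans (σ.isConj_n (y := (1, 0)) (by simp [u]) (by simp [w]))).symm)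
  · exact Or.inl ((i00.trans ((σ.isConj_n (y := (0, 1)) (by simp [u]) (by simp [w])).trans
      σ.isConj_n01)).symm)
  · exact Or.inl (i10.trans (σ.isConj_n
      (by simp only [Prod.fst_add, map_add, a1, u, Prod.fst_zero, map_zero]; decide)
      (by simp only [Prod.snd_add, map_add, a2, w, Prod.snd_zero, map_zero]; decide)))

end Shape

end CfsgLib.Fusion.G2Type
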