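import Cfsg.Agent.Lib.Fusion.G2Type.Classes

/-!
A simple group with a Sylow 2-subgroup of `G₂(q)` shape has one class of involutions, or two and a
Sylow 2-subgroup of order 64.
-/

set_option autoImplicit false

namespace CfsgLib.Fusion.G2Type

open Subgroup

namespace Shape

section

variable {G : Type*} [Group G] {S : Subgroup G} {k : ℕ} (σ : Shape S k)

theorem twist_z : σ.twist.z = σ.z := by
  show σ.t (hh k, -hh k) * 1 * 1 = σ.t (hh k, hh k) * 1 * 1
  rw [σ.neg_hh']

theorem twist_s : σ.twist.e 0 false true = σ.e 0 true true := by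
  simp [e, twist, Prod.mk_zero_zero, σ.t_zero, ← σ.ns]

theorem twist_sn : σ.twist.e 0 true true = σ.e 0 false true := by
  simp [e, twist, Prod.mk_zero_zero, σ.t_zero, mul_assoc, σ.nn', ← σ.ns]

/-- In the centraliser of an inverting involution every element has order at most four. -/
theorem four_of_commute_n {x y : V k} {i j : Bool}
    (h : Commute (σ.e x true false) (σ.e y i j)) :
    (σ.e y i j * σ.e y i j) * (σ.e y i j * σ.e y i j) = 1 := by
  rw [commute_iff] at h
  rw [e_sq, e_sq, e_eq_one]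
  refine ⟨?_, rfl, rfl⟩
  have h1 := congrArg Prod.fst h
  have h2 := congrArg Prod.snd h
  cases i <;> cases j <;> simp [act, sw] at h1 h2 ⊢ <;> refine Prod.ext ?_ ?_ <;>
    simp only [Prod.fst_add, Prod.snd_add, Prod.fst_swap, Prod.snd_swap, Prod.fst_neg, Prod.snd_neg,
      Prod.fst_zero, Prod.snd_zero]
  · linear_combination -2 * h1
  · linear_combination -2 * h2
  · linear_combination -h1 - h2
  · linear_combination -h1 - h2
  · linear_combination -h1 + h2
  · linear_combination h1 - h2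

/-- The configuration met in the centraliser of `s` is impossible. -/
theorem contra (h3 : 3 ≤ k) (hs : ¬ IsConj (σ.e 0 false true) σ.z)
    (hsn : ¬ IsConj (σ.e 0 true true) σ.z) {y x : G} (hy : y ∈ S) (hx : x ∈ S)
    (hys : Commute y (σ.e 0 false true)) (hxs : Commute x (σ.e 0 false true))
    (hy2 : y * y = 1) (hx2 : x * x = 1) (hyR : IsConj y σ.z) (hxR : ¬ IsConj x σ.z)
    (hxsR : ¬ IsConj (x * σ.e 0 false true) σ.z) (h2 : (y * x) * (y * x) ≠ 1)
    (h4 : (y * x) * (y * x) * ((y * x) * (y * x)) = 1) : False := by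
  have hy1 : y ≠ 1 := fun e => σ.z_ne (by rw [e] at hyR; exact isConj_one_right.mp hyR)
  have diag : ∀ {x : V k} {i j : Bool}, Commute (σ.e x i j) (σ.e 0 false true) → x.1 = x.2 := by
    intro x i j h
    rw [commute_iff] at h
    have := congrArg Prod.fst h
    cases i <;> cases j <;> simpa [act, sw] using this
  obtain ⟨a, i, j, rfl⟩ := σ.exists_e hy
  have ha := diag hys
  have hz : ∀ {w : G}, w ∈ S → w * w = 1 → (σ.z * w) * (σ.z * w) = 1 := by
    intro w hw h
    rw [show σ.z * w * (σ.z * w) = σ.z * (w * σ.z) * w by group, ← (σ.z_comm hw).eq,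
      show σ.z * (σ.z * w) * w = (σ.z * σ.z) * (w * w) by group, σ.z_sq, h, one_mul]
  cases i <;> cases j
  · rw [e_sq, e_eq_one] at hy2
    have hy2' : a + a = 0 := hy2.1
    rcases σ.eq_of_sq hy2' (fun e => hy1 (by rw [e, e_one])) with rfl | rfl | rfl
    · exact h2 (hz hx hx2)
    · exact hh_ne σ.hk ha
    · exact hh_ne σ.hk ha.symm
  · exact hs ((σ.ft_shape hy2).symm.trans hyR)
  · obtain ⟨b, i', j', hb⟩ := σ.exists_e (mul_mem hy hx)
    have hbc : Commute (σ.e b i' j') (σ.e 0 false true) := hb ▸ hys.mul_left hxs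
    have hb' := diag hbc
    have hxe : x = σ.e a true false * σ.e b i' j' := by
      rw [← hb, ← mul_assoc, hy2, one_mul]
    rw [hb, e_sq] at h2 h4
    cases i'
    · rw [e_sq, e_eq_one] at h4
      have h4' := congrArg Prod.fst h4.1
      have hpb1 : par σ.hk b.1 = 0 := par_of_four h3 (by cases j' <;> simpa [act, sw, ← hb'] using h4')
      have hpb2 : par σ.hk b.2 = 0 := hb' ▸ hpb1
      rw [e_mul] at hxe
      cases j'
      · refine hxR (IsConj.trans ?_ hyR)
        rw [hxe]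
        refine σ.isConj_n ?_ ?_ <;> simp [act, sw, hpb1, hpb2]
      · refine hxsR (IsConj.trans ?_ hyR)
        rw [hxe, e_mul]
        refine σ.isConj_n ?_ ?_ <;> simp [act, sw, hpb1, hpb2]
    · apply h2
      rw [e_eq_one]
      refine ⟨?_, rfl, rfl⟩
      cases j' <;> ext <;> simp [act, sw, hb']
  · exact hsn ((σ.tt_shape hy2).symm.trans hyR)

end

variable {G : Type*} [Group G] [Finite G] [IsSimpleGroup G] {S : Sylow 2 G} {k : ℕ}
  (σ : Shape (S : Subgroup G) k)

theorem n_type (x : V k) : IsConj (σ.e x true false) (σ.e 0 true false) ∨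
    IsConj (σ.e x true false) (σ.e (1, 1) true false) := by
  have fin : ∀ p : ZMod 2, p = 0 ∨ p = 1 := by decide
  rcases fin (par σ.hk x.1) with u | u <;> rcases fin (par σ.hk x.2) with w | w
  · exact Or.inl (σ.isConj_n (by simp [u]) (by simp [w]))
  · have h := (σ.isConj_n (x := x) (y := (0, 1)) (by simp [u]) (by simp [w])).trans σ.isConj_n01
    exact σ.n10_conj.imp h.trans h.trans
  · have h := σ.isConj_n (x := x) (y := (1, 0)) (by simp [u]) (by simp [w])
    exact σ.n10_conj.imp h.trans h.trans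
  · exact Or.inr (σ.isConj_n (by simp [u]) (by simp [w]))

omit [Finite G] [IsSimpleGroup G] in
/-- The maximal subgroups containing the homocyclic group. -/
theorem exists_kernel (a b : Bool) : ∃ Q : Subgroup G, Q ≤ (S : Subgroup G) ∧
    (∀ x i j, σ.e x i j ∈ Q ↔ xor (a && i) (b && j) = false) := by
  refine ⟨{ carrier := {g | ∃ x i j, g = σ.e x i j ∧ xor (a && i) (b && j) = false}
            mul_mem' := ?_
            one_mem' := ⟨0, false, false, σ.e_one.symm, by simp⟩
            inv_mem' := ?_ }, ?_, fun x i j => ⟨?_, fun h => ⟨x, i, j, rfl, h⟩⟩⟩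
  · rintro _ _ ⟨x, i, j, rfl, h⟩ ⟨y, i', j', rfl, h'⟩
    exact ⟨_, _, _, σ.e_mul _ _ _ _ _ _,
      by revert h h'; cases a <;> cases b <;> cases i <;> cases j <;> cases i' <;> cases j' <;> decide⟩
  · rintro _ ⟨x, i, j, rfl, h⟩
    exact ⟨_, _, _, σ.e_inv _ _ _, h⟩
  · rintro _ ⟨x, i, j, rfl, -⟩
    exact σ.e_mem _ _ _
  · rintro ⟨y, i', j', e, h⟩
    obtain ⟨-, rfl, rfl⟩ := σ.e_inj.mp e
    exact h

theorem transfer (a b : Bool) {x : V k} {i j : Bool} (hu : σ.e x i j * σ.e x i j = 1)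
    (hχ : xor (a && i) (b && j) = true) :
    ∃ g y i' j', g * σ.e x i j * g⁻¹ = σ.e y i' j' ∧ xor (a && i') (b && j') = false := by
  obtain ⟨Q, hQ, hmem⟩ := σ.exists_kernel a b
  have hnot : σ.e x i j ∉ Q := by rw [hmem, hχ]; decide
  have hidx : Q.relIndex (S : Subgroup G) = 2 := by
    rw [Subgroup.relIndex, Subgroup.index_eq_two_iff]
    refine ⟨⟨σ.e x i j, σ.e_mem _ _ _⟩, fun c => ?_⟩
    obtain ⟨y, i', j', hc⟩ := σ.exists_e c.2
    simp only [Subgroup.mem_subgroupOf, Subgroup.coe_mul, hc, e_mul, hmem]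
    revert hχ
    cases a <;> cases b <;> cases i <;> cases j <;> cases i' <;> cases j' <;> decide
  rcases ThompsonTransfer.thompson_transfer S Q hQ hidx _ (by rw [pow_two]; exact hu)
    (σ.e_mem x i j) hnot with ⟨M, hM, hM2, -⟩ | ⟨g, hg⟩
  · exact (σ.no_index_two M hM hM2).elim
  · obtain ⟨y, i', j', he⟩ := σ.exists_e (hQ hg)
    exact ⟨g, y, i', j', he, (hmem y i' j').mp (he ▸ hg)⟩

theorem inv_ff {x : V k} (h : σ.e x false false * σ.e x false false = 1)
    (hx : σ.e x false false ≠ 1) : IsConj (σ.e x false false) σ.z := by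
  rcases σ.ff_shape h hx with h | h
  · exact h ▸ IsConj.refl _
  · exact h.trans σ.v_conj

theorem s_cases (i : Bool) : IsConj (σ.e 0 i true) σ.z ∨
    IsConj (σ.e 0 i true) (σ.e 0 true false) ∨ IsConj (σ.e 0 i true) (σ.e (1, 1) true false) := by
  have hu : σ.e 0 i true * σ.e 0 i true = 1 := by
    rw [e_sq, e_eq_one]; cases i <;> simp [act, sw]
  obtain ⟨g, y, i', j', e, h⟩ := σ.transfer false true hu (by simp)
  have hc : IsConj (σ.e 0 i true) (σ.e y i' j') := isConj_iff.mpr ⟨g, e⟩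
  obtain rfl : j' = false := by simpa using h
  cases i'
  · exact Or.inl (hc.trans (σ.inv_ff (e ▸ conj_mul_self hu)
      (e ▸ conj_ne_one (by simp [e_eq_one]))))
  · exact Or.inr ((σ.n_type y).imp hc.trans hc.trans)

theorem n_cases (x : V k) :
    (IsConj (σ.e x true false) σ.z ∨ IsConj (σ.e x true false) (σ.e 0 false true)) ∧
    (IsConj (σ.e x true false) σ.z ∨ IsConj (σ.e x true false) (σ.e 0 true true)) := by
  have hu : σ.e x true false * σ.e x true false = 1 := by
    rw [e_sq, e_eq_one]; simp [act, sw]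
  constructor
  · obtain ⟨g, y, i', j', e, h⟩ := σ.transfer true false hu (by simp)
    have hc : IsConj (σ.e x true false) (σ.e y i' j') := isConj_iff.mpr ⟨g, e⟩
    obtain rfl : i' = false := by simpa using h
    have hy : σ.e y false j' * σ.e y false j' = 1 := e ▸ conj_mul_self hu
    cases j'
    · exact Or.inl (hc.trans (σ.inv_ff hy (e ▸ conj_ne_one (by simp [e_eq_one]))))
    · exact Or.inr (hc.trans (σ.ft_shape hy))
  · obtain ⟨g, y, i', j', e, h⟩ := σ.transfer true true hu (by simp)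
    have hc : IsConj (σ.e x true false) (σ.e y i' j') := isConj_iff.mpr ⟨g, e⟩
    obtain rfl : i' = j' := by simpa using h
    have hy : σ.e y i' i' * σ.e y i' i' = 1 := e ▸ conj_mul_self hu
    cases i'
    · exact Or.inl (hc.trans (σ.inv_ff hy (e ▸ conj_ne_one (by simp [e_eq_one]))))
    · exact Or.inr (hc.trans (σ.tt_shape hy))

theorem classify {g : G} (hg : g ∈ S) (h : g * g = 1) (h1 : g ≠ 1) :
    IsConj g σ.z ∨ IsConj g (σ.e 0 false true) := by
  obtain ⟨x, i, j, rfl⟩ := σ.exists_e hg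
  cases i <;> cases j
  · exact Or.inl (σ.inv_ff h h1)
  · exact Or.inr (σ.ft_shape h)
  · exact (σ.n_cases x).1
  · have h2 := σ.tt_shape h
    rcases σ.s_cases true with h3 | h3 | h3
    · exact Or.inl (h2.trans h3)
    · exact (σ.n_cases 0).1.imp (h2.trans h3).trans (h2.trans h3).trans
    · exact (σ.n_cases (1, 1)).1.imp (h2.trans h3).trans (h2.trans h3).trans

theorem isConj_s_z (h3 : 3 ≤ k) : IsConj (σ.e 0 false true) σ.z := by
  by_contra hs
  haveI : Fact (Nat.Prime 2) := ⟨Nat.prime_two⟩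
  obtain ⟨c, hsu⟩ : ∃ c, IsConj (σ.e 0 false true) (σ.e (c, c) true false) := by
    rcases σ.s_cases false with h | h | h
    · exact absurd h hs
    · exact ⟨0, h⟩
    · exact ⟨1, h⟩
  set u := σ.e (c, c) true false with hu_def
  have hu : ¬ IsConj u σ.z := fun h => hs (hsu.trans h)
  have husn : IsConj u (σ.e 0 true true) := (σ.n_cases (c, c)).2.resolve_left hu
  have hsn : ¬ IsConj (σ.e 0 true true) σ.z := fun h => hu (husn.trans h)
  -- a Sylow subgroup of the centraliser of `s`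
  let K : Subgroup G := centralizer {σ.e 0 false true}
  obtain ⟨R, hR⟩ := ((S.2.to_le (inf_le_left : (S : Subgroup G) ⊓ K ≤ S)).of_equiv
    (subgroupOfEquivOfLe (inf_le_right : (S : Subgroup G) ⊓ K ≤ K)).symm).exists_le_sylow
  obtain ⟨g0, hg0⟩ := isConj_iff.mp hsu.symm
  let P : Subgroup G := ((S : Subgroup G) ⊓ centralizer {u}).map (MulAut.conj g0).toMonoidHom
  have hP : IsPGroup 2 P := (S.2.to_le inf_le_left).map _
  have hPK : P ≤ K := by
    rintro _ ⟨p, hp, rfl⟩
    have h := mem_centralizer_singleton_iff.mp hp.2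
    rw [mem_centralizer_singleton_iff, ← hg0]
    show g0 * p * g0⁻¹ * (g0 * u * g0⁻¹) = g0 * u * g0⁻¹ * (g0 * p * g0⁻¹)
    rw [show g0 * p * g0⁻¹ * (g0 * u * g0⁻¹) = g0 * (p * u) * g0⁻¹ by group, h]
    group
  obtain ⟨l, hl⟩ := Involution.Basic.exists_conj_le R
    (hP.of_equiv (subgroupOfEquivOfLe hPK).symm)
  obtain ⟨a, ha⟩ := Involution.Basic.exists_conj_le S (R.2.map K.subtype)
  have haR : ∀ r : K, r ∈ R → a * (r : G) * a⁻¹ ∈ S := fun r hr => ha _ ⟨r, hr, rfl⟩
  have hSK : ∀ p ∈ S, Commute p (σ.e 0 false true) → a * p * a⁻¹ ∈ S := fun p hp hc => by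
    have hpK : p ∈ K := mem_centralizer_singleton_iff.mpr hc.eq
    exact haR ⟨p, hpK⟩ (hR ⟨hp, hpK⟩)
  have hu'S : a * σ.e 0 false true * a⁻¹ ∈ S := hSK _ (σ.e_mem _ _ _) (Commute.refl _)
  have hw : Commute (σ.e ((1, 1) : V k) false false) (σ.e 0 false true) := by
    rw [commute_iff]; simp [act, sw]
  have hwS := hSK _ (σ.e_mem ((1, 1) : V k) false false) hw
  have hwc := hw.map (MulAut.conj a).toMonoidHom
  change Commute (a * _ * a⁻¹) (a * _ * a⁻¹) at hwc
  obtain ⟨y, i, j, hy⟩ := σ.exists_e hu'S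
  have hy2 : σ.e y i j * σ.e y i j = 1 := hy ▸ conj_mul_self (by
    rw [e_sq, e_eq_one]; simp [act, sw])
  have hy1 : σ.e y i j ≠ 1 := hy ▸ conj_ne_one (by simp [e_eq_one])
  have hsy : IsConj (σ.e 0 false true) (σ.e y i j) := isConj_iff.mpr ⟨a, hy⟩
  obtain ⟨b, hbS, u', hu', hb⟩ : ∃ b ∈ S, ∃ u', (u' = σ.e 0 false true ∨ u' = σ.e 0 true true) ∧
      b * σ.e y i j * b⁻¹ = u' := by
    rw [e_sq, e_eq_one] at hy2
    cases i <;> cases j
    · exact absurd (hsy.trans (σ.inv_ff (by rw [e_sq, e_eq_one]; exact hy2) hy1)) hs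
    · refine ⟨σ.e (-y.1, 0) false false, σ.e_mem _ _ _, _, Or.inl rfl, ?_⟩
      have h' : y.1 + y.2 = 0 := congrArg Prod.fst hy2.1
      rw [e_inv, e_mul, e_mul]
      simp only [e_inj, act, sw, Bool.false_xor, Bool.xor_false, and_true]
      ext <;> simp
      linear_combination h'
    · exfalso
      obtain ⟨x', i', j', hx'⟩ := σ.exists_e hwS
      rw [hy, hx'] at hwc
      have h4 := σ.four_of_commute_n hwc.symm
      rw [← hx', show ∀ w : G, a * w * a⁻¹ * (a * w * a⁻¹) * (a * w * a⁻¹ * (a * w * a⁻¹)) =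
        a * (w * w * (w * w)) * a⁻¹ from fun w => by group, conj_eq_one_iff, e_sq, e_sq,
        e_eq_one] at h4
      have h5 : (1 : ZMod (2 ^ k)) + 1 + (1 + 1) = 0 := by
        simpa [act, sw] using congrArg Prod.fst h4.1
      have h6 := par_of_four h3 h5
      rw [map_one] at h6
      exact one_ne_zero h6
    · refine ⟨σ.e (-y.1, 0) false false, σ.e_mem _ _ _, _, Or.inr rfl, ?_⟩
      have h' : y.1 + -y.2 = 0 := congrArg Prod.fst hy2.1
      rw [e_inv, e_mul, e_mul]
      simp only [e_inj, act, sw, Bool.false_xor, Bool.xor_false, and_true]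
      ext <;> simp
      linear_combination -h'
  let φ : G →* G := (MulAut.conj (b * (a * ((l : G) * g0)))).toMonoidHom
  have happ : ∀ p, φ p = b * (a * ((l : G) * (g0 * p * g0⁻¹) * (l : G)⁻¹) * a⁻¹) * b⁻¹ := by
    intro p
    show b * (a * ((l : G) * g0)) * p * (b * (a * ((l : G) * g0)))⁻¹ = _
    group
  have hφu : φ u = u' := by
    rw [happ, hg0, mem_centralizer_singleton_iff.mp l.2, mul_inv_cancel_right, hy, hb]
  have hφS : ∀ p ∈ S, Commute p u → φ p ∈ S ∧ Commute (φ p) u' := by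
    intro p hp hc
    refine ⟨?_, hφu ▸ hc.map φ⟩
    have hpP : g0 * p * g0⁻¹ ∈ P := ⟨p, ⟨hp, mem_centralizer_singleton_iff.mpr hc.eq⟩, rfl⟩
    rw [happ]
    exact mul_mem (mul_mem hbS (haR _ (hl ⟨_, hPK hpP⟩ hpP))) (inv_mem hbS)
  have hvu : Commute σ.v u := ((σ.v_comm (σ.e_mem _ _ _)).mpr ⟨_, _, rfl⟩).symm
  have hsu' : Commute (σ.e 0 false true) u := by rw [hu_def, commute_iff]; simp [act, sw]
  obtain ⟨hyS, hyc⟩ := hφS _ (σ.e_mem _ _ _) hvu
  obtain ⟨hxS, hxc⟩ := hφS _ (σ.e_mem _ _ _) hsu'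
  have hconj : ∀ p, IsConj p (φ p) := fun p => isConj_iff.mpr ⟨_, rfl⟩
  have f1 : φ σ.v * φ σ.v = 1 := by rw [← map_mul, v_sq, map_one]
  have f2 : φ (σ.e 0 false true) * φ (σ.e 0 false true) = 1 := by
    rw [← map_mul, e_sq]; simp [act, sw, e_one]
  have f3 : IsConj (φ σ.v) σ.z := (hconj _).symm.trans σ.v_conj
  have f4 : ¬ IsConj (φ (σ.e 0 false true)) σ.z := fun h => hs ((hconj _).trans h)
  have f5 : ¬ IsConj (φ (σ.e 0 false true) * u') σ.z := by
    rw [← hφu, ← map_mul]
    intro h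
    refine hsn (IsConj.trans ?_ ((hconj _).trans h))
    rw [hu_def, e_mul]
    refine (σ.tt_shape ?_).symm
    rw [e_sq, e_eq_one]; simp [act, sw]
  have e6 : σ.v * σ.e 0 false true * (σ.v * σ.e 0 false true) = σ.z := by
    rw [v, z, e_mul, e_sq]; simp [act, sw]
  have f6 : φ σ.v * φ (σ.e 0 false true) * (φ σ.v * φ (σ.e 0 false true)) ≠ 1 := by
    rw [← map_mul, ← map_mul, e6]
    exact conj_ne_one σ.z_ne
  have f7 : φ σ.v * φ (σ.e 0 false true) * (φ σ.v * φ (σ.e 0 false true)) *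
      (φ σ.v * φ (σ.e 0 false true) * (φ σ.v * φ (σ.e 0 false true))) = 1 := by
    rw [← map_mul, ← map_mul, e6, ← map_mul, z_sq, map_one]
  rcases hu' with rfl | rfl
  · exact σ.contra h3 hs hsn hyS hxS hyc hxc f1 f2 f3 f4 f5 f6 f7
  · refine σ.twist.contra h3 ?_ ?_ hyS hxS ?_ ?_ f1 f2 ?_ ?_ ?_ f6 f7 <;>
      simp only [twist_z, twist_s, twist_sn] <;> assumption

include σ in
theorem involution_classes :
    (∀ x y : G, orderOf x = 2 → orderOf y = 2 → IsConj x y) ∨
      (Nat.card (S : Subgroup G) = 64 ∧ ∃ x y : G, orderOf x = 2 ∧ orderOf y = 2 ∧ ¬ IsConj x y ∧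
        ∀ z : G, orderOf z = 2 → IsConj z x ∨ IsConj z y) := by
  haveI : Fact (Nat.Prime 2) := ⟨Nat.prime_two⟩
  have hall : ∀ x : G, orderOf x = 2 → IsConj x σ.z ∨ IsConj x (σ.e 0 false true) := by
    intro x hx
    obtain ⟨g, hg⟩ := Involution.Basic.exists_conj_le S (IsPGroup.of_card (p := 2) (n := 1)
      (by rw [Nat.card_zpowers, hx, pow_one] : Nat.card (zpowers x) = 2 ^ 1))
    have hxx : x * x = 1 := by rw [← pow_two, ← hx, pow_orderOf_eq_one]
    have hx1 : x ≠ 1 := fun h => by rw [h, orderOf_one] at hx; omega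
    have h := σ.classify (hg x (mem_zpowers x)) (conj_mul_self hxx) (conj_ne_one hx1)
    have hc : IsConj x (g * x * g⁻¹) := isConj_iff.mpr ⟨g, rfl⟩
    exact h.imp hc.trans hc.trans
  by_cases hs : IsConj (σ.e 0 false true) σ.z
  · refine Or.inl fun x y hx hy => ?_
    have h : ∀ w : G, orderOf w = 2 → IsConj w σ.z := fun w hw =>
      (hall w hw).elim id fun h => h.trans hs
    exact (h x hx).trans (h y hy).symm
  · refine Or.inr ⟨?_, σ.z, σ.e 0 false true, orderOf_eq_prime (by rw [pow_two, z_sq]) σ.z_ne,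
      orderOf_eq_prime (by rw [pow_two, e_sq, e_eq_one]; simp [act, sw]) (by simp [e_eq_one]),
      fun h => hs h.symm, hall⟩
    have h2 : k = 2 := by
      have := σ.two_le
      by_contra hne
      exact hs (σ.isConj_s_z (by omega))
    rw [σ.card_eq, h2]
    norm_num

end Shape

end CfsgLib.Fusion.G2Type
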