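import Mathlib

/-!
The shape of a Sylow 2-subgroup of `G₂(q)`, `q` odd: the extension of a homocyclic group of rank two
by a four-group of which one involution inverts and another interchanges a basis.
-/

set_option autoImplicit false

namespace CfsgLib.Fusion.G2Type

variable {G : Type*} [Group G]

/-- The homocyclic group. -/
abbrev V (k : ℕ) := ZMod (2 ^ k) × ZMod (2 ^ k)

/-- Conditional swap. -/
def sw {k : ℕ} : Bool → V k → V k
  | false, x => x
  | true, x => x.swap

/-- The action of the four-group. -/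
def act {k : ℕ} : Bool → Bool → V k → V k
  | false, j, x => sw j x
  | true, j, x => -sw j x

/-- The shape. -/
structure Shape (S : Subgroup G) (k : ℕ) where
  two_le : 2 ≤ k
  t : V k → G
  n : G
  s : G
  t_add : ∀ x y, t (x + y) = t x * t y
  n_sq : n * n = 1
  s_sq : s * s = 1
  ns : n * s = s * n
  n_t : ∀ x, n * t x = t (-x) * n
  s_t : ∀ x, s * t x = t x.swap * s
  t_mem : ∀ x, t x ∈ S
  n_mem : n ∈ S
  s_mem : s ∈ S
  surj : ∀ g ∈ S, ∃ x i j, g = t x * (bif i then n else 1) * (bif j then s else 1)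
  inj : ∀ x i j, t x * (bif i then n else 1) * (bif j then s else 1) = 1 →
    x = 0 ∧ i = false ∧ j = false

namespace Shape

variable {S : Subgroup G} {k : ℕ} (σ : Shape S k)

/-- The normal form. -/
def e (x : V k) (i j : Bool) : G := σ.t x * (bif i then σ.n else 1) * (bif j then σ.s else 1)

theorem t_zero : σ.t 0 = 1 := by
  have h := σ.t_add 0 0
  rw [add_zero] at h
  exact left_eq_mul.mp h

theorem n_t' (x : V k) (r : G) : σ.n * (σ.t x * r) = σ.t (-x) * (σ.n * r) := by
  rw [← mul_assoc, σ.n_t, mul_assoc]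

theorem s_t' (x : V k) (r : G) : σ.s * (σ.t x * r) = σ.t x.swap * (σ.s * r) := by
  rw [← mul_assoc, σ.s_t, mul_assoc]

theorem sn' (r : G) : σ.s * (σ.n * r) = σ.n * (σ.s * r) := by
  rw [← mul_assoc, ← σ.ns, mul_assoc]

theorem t_t' (x y : V k) (r : G) : σ.t x * (σ.t y * r) = σ.t (x + y) * r := by
  rw [← mul_assoc, ← σ.t_add]

theorem nn' (r : G) : σ.n * (σ.n * r) = r := by rw [← mul_assoc, σ.n_sq, one_mul]

theorem ss' (r : G) : σ.s * (σ.s * r) = r := by rw [← mul_assoc, σ.s_sq, one_mul]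

theorem e_mul (x y : V k) (i j i' j' : Bool) :
    σ.e x i j * σ.e y i' j' = σ.e (x + act i j y) (xor i i') (xor j j') := by
  cases i <;> cases j <;> cases i' <;> cases j' <;>
    simp [e, act, sw, mul_assoc, σ.n_t', σ.s_t', σ.sn', σ.t_t', σ.nn', σ.n_t, σ.s_t, σ.n_sq,
      σ.s_sq, σ.ns.symm, ← σ.t_add]

theorem e_one : σ.e 0 false false = 1 := by simp [e, σ.t_zero]

theorem e_t (x : V k) : σ.e x false false = σ.t x := by simp [e]

theorem e_s : σ.e 0 false true = σ.s := by simp [e, σ.t_zero]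

theorem e_n : σ.e 0 true false = σ.n := by simp [e, σ.t_zero]

theorem e_mem (x : V k) (i j : Bool) : σ.e x i j ∈ S := by
  refine mul_mem (mul_mem (σ.t_mem x) ?_) ?_
  · cases i
    · exact one_mem S
    · exact σ.n_mem
  · cases j
    · exact one_mem S
    · exact σ.s_mem

theorem exists_e {g : G} (hg : g ∈ S) : ∃ x i j, g = σ.e x i j := σ.surj g hg

theorem act_neg_act (i j : Bool) (x : V k) : act i j (-act i j x) = -x := by
  cases i <;> cases j <;> simp [act, sw]

theorem e_inv (x : V k) (i j : Bool) : (σ.e x i j)⁻¹ = σ.e (-act i j x) i j := by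
  apply inv_eq_of_mul_eq_one_right
  rw [e_mul, act_neg_act, add_neg_cancel, Bool.xor_self, Bool.xor_self, e_one]

theorem e_inj {x y : V k} {i j i' j' : Bool} :
    σ.e x i j = σ.e y i' j' ↔ x = y ∧ i = i' ∧ j = j' := by
  refine ⟨fun h => ?_, by rintro ⟨rfl, rfl, rfl⟩; rfl⟩
  rw [← mul_inv_eq_one, e_inv, e_mul] at h
  obtain ⟨h1, h2, h3⟩ := σ.inj _ _ _ h
  have hi : i = i' := by cases i <;> cases i' <;> simp_all
  have hj : j = j' := by cases j <;> cases j' <;> simp_all
  subst hi hj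
  refine ⟨?_, rfl, rfl⟩
  rw [← add_neg_eq_zero]
  cases i <;> cases j <;> simpa [act, sw] using h1

theorem e_eq_one {x : V k} {i j : Bool} : σ.e x i j = 1 ↔ x = 0 ∧ i = false ∧ j = false := by
  rw [← e_one, e_inj]

theorem e_sq (x : V k) (i j : Bool) : σ.e x i j * σ.e x i j = σ.e (x + act i j x) false false := by
  rw [e_mul, Bool.xor_self, Bool.xor_self]

theorem commute_iff {x y : V k} {i j i' j' : Bool} :
    Commute (σ.e x i j) (σ.e y i' j') ↔ x + act i j y = y + act i' j' x := by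
  show _ * _ = _ * _ ↔ _
  rw [e_mul, e_mul, e_inj, Bool.xor_comm i, Bool.xor_comm j]
  simp

theorem isConj_e (y : V k) (a b : Bool) (x : V k) (i j : Bool) :
    IsConj (σ.e x i j) (σ.e (y + act a b x + act i j (-y)) i j) := by
  refine isConj_iff.mpr ⟨σ.e y a b, ?_⟩
  rw [e_inv, e_mul, e_mul, e_inj]
  refine ⟨?_, by cases a <;> cases i <;> rfl, by cases b <;> cases j <;> rfl⟩
  cases a <;> cases b <;> cases i <;> cases j <;> simp [act, sw]

/-- Transport along an isomorphism. -/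
def map {G' : Type*} [Group G'] {S' : Subgroup G'} (φ : S ≃* S') : Shape S' k where
  two_le := σ.two_le
  t x := (φ ⟨σ.t x, σ.t_mem x⟩ : G')
  n := (φ ⟨σ.n, σ.n_mem⟩ : G')
  s := (φ ⟨σ.s, σ.s_mem⟩ : G')
  t_add x y := by
    rw [← Subgroup.coe_mul, ← map_mul]
    exact congrArg (fun a => (φ a : G')) (Subtype.ext (σ.t_add x y))
  n_sq := by
    rw [← Subgroup.coe_mul, ← map_mul, show (⟨σ.n, σ.n_mem⟩ : S) * ⟨σ.n, σ.n_mem⟩ = 1 from
      Subtype.ext σ.n_sq, map_one, Subgroup.coe_one]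
  s_sq := by
    rw [← Subgroup.coe_mul, ← map_mul, show (⟨σ.s, σ.s_mem⟩ : S) * ⟨σ.s, σ.s_mem⟩ = 1 from
      Subtype.ext σ.s_sq, map_one, Subgroup.coe_one]
  ns := by
    rw [← Subgroup.coe_mul, ← Subgroup.coe_mul, ← map_mul, ← map_mul]
    exact congrArg (fun a => (φ a : G')) (Subtype.ext σ.ns)
  n_t x := by
    rw [← Subgroup.coe_mul, ← Subgroup.coe_mul, ← map_mul, ← map_mul]
    exact congrArg (fun a => (φ a : G')) (Subtype.ext (σ.n_t x))
  s_t x := by
    rw [← Subgroup.coe_mul, ← Subgroup.coe_mul, ← map_mul, ← map_mul]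
    exact congrArg (fun a => (φ a : G')) (Subtype.ext (σ.s_t x))
  t_mem x := (φ _).2
  n_mem := (φ _).2
  s_mem := (φ _).2
  surj g hg := by
    obtain ⟨a, ha⟩ := φ.surjective ⟨g, hg⟩
    obtain ⟨x, i, j, e⟩ := σ.surj a a.2
    refine ⟨x, i, j, ?_⟩
    have : a = ⟨σ.t x, σ.t_mem x⟩ * (bif i then ⟨σ.n, σ.n_mem⟩ else 1) *
        (bif j then ⟨σ.s, σ.s_mem⟩ else 1) := by
      apply Subtype.ext
      rw [e]
      cases i <;> cases j <;> simp
    rw [show g = (φ a : G') by rw [ha], this, map_mul, map_mul, Subgroup.coe_mul, Subgroup.coe_mul]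
    cases i <;> cases j <;> simp only [cond_true, cond_false, map_one, Subgroup.coe_one]
  inj x i j h := by
    refine σ.inj x i j ?_
    have : φ (⟨σ.t x, σ.t_mem x⟩ * (bif i then ⟨σ.n, σ.n_mem⟩ else 1) *
        (bif j then ⟨σ.s, σ.s_mem⟩ else 1)) = 1 := by
      apply Subtype.ext
      rw [Subgroup.coe_one, ← h, map_mul, map_mul, Subgroup.coe_mul, Subgroup.coe_mul]
      cases i <;> cases j <;> simp only [cond_true, cond_false, map_one, Subgroup.coe_one]
    rw [map_eq_one_iff _ φ.injective] at this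
    have h2 := congrArg Subtype.val this
    cases i <;> cases j <;>
      simpa only [cond_true, cond_false, Subgroup.coe_mul, Subgroup.coe_one, mul_one] using h2

/-- The shape with the other interchanging involution. -/
def twist : Shape S k where
  two_le := σ.two_le
  t x := σ.t (x.1, -x.2)
  n := σ.n
  s := σ.s * σ.n
  t_add x y := by
    rw [← σ.t_add]
    congr 1
    ext <;> simp [add_comm]
  n_sq := σ.n_sq
  s_sq := by simp [mul_assoc, σ.sn', σ.ss', σ.n_sq]
  ns := by simp [mul_assoc, σ.sn', ← σ.ns, σ.n_sq]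
  n_t x := by rw [σ.n_t]; simp
  s_t x := by
    rw [mul_assoc, σ.n_t, σ.s_t']
    simp [Prod.swap]
  t_mem x := σ.t_mem _
  n_mem := σ.n_mem
  s_mem := mul_mem σ.s_mem σ.n_mem
  surj g hg := by
    obtain ⟨x, i, j, rfl⟩ := σ.surj g hg
    refine ⟨(x.1, -x.2), xor i j, j, ?_⟩
    cases i <;> cases j <;> simp [mul_assoc, σ.sn', σ.nn', σ.n_sq, σ.ns.symm]
  inj x i j h := by
    have h' : σ.t (x.1, -x.2) * (bif xor i j then σ.n else 1) * (bif j then σ.s else 1) = 1 := by
      refine (?_ : _ = _).trans h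
      cases i <;> cases j <;> simp [mul_assoc, σ.sn', σ.nn', σ.n_sq, σ.ns.symm]
    obtain ⟨h1, h2, h3⟩ := σ.inj _ _ _ h'
    subst h3
    refine ⟨?_, by simpa using h2, rfl⟩
    simp only [Prod.mk_eq_zero, neg_eq_zero] at h1
    exact Prod.ext h1.1 h1.2

end Shape

end CfsgLib.Fusion.G2Type
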